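import Cfsg.Agent.MK.GA.Cnt
import Cfsg.Agent.MK.GX.Psu
import Cfsg.Agent.MK.G.Cover
import Cfsg.Agent.MK.L.L2
import Cfsg.Agent.MK.A.Row
import Cfsg.Agent.Nodes.KindA
import Cfsg.Agent.H310.OQ.Psl
import Cfsg.Agent.H69.CosetCox
import Cfsg.Agent.H87.HerB

/-!
# MK-G-A: the row of `PSL_n(q)`, `q` odd (helper2)

`gd_psl` (`n ≥ 3`), `gd_l2_one` (`n = 2`, `q ≡ 1 mod 8`), `gd_l29`, **`row_psl`**.
-/

set_option autoImplicit false
set_option linter.unusedSectionVars false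
set_option maxHeartbeats 400000

namespace Cfsg.Agent.MK.GA

open Cfsg Matrix CoxeterSystem Cfsg.Agent.ChevalleyStructure.CoxeterGeom Cfsg.Agent.Tits.Roots Cfsg.Agent.Nodes.Reps
  Cfsg.Agent.Nodes.BNOf Cfsg.Agent.Nodes.Bruhat Cfsg.Agent.KFacts.RgdAut Cfsg.Agent.KFacts.RgdDiag
  Cfsg.Agent.ClosedExc.Frame Cfsg.Agent.ODD.QB Cfsg.Agent.MK.G Cfsg.Agent.GAL.Nrm Cfsg.Agent.H310.OQ
  Cfsg.Agent.ODD Cfsg.Agent.ODD.FA Cfsg.Agent.Nodes.Coroot
open Cfsg.Agent.Nodes.RGDTypeA Cfsg.Agent.Nodes.RootsA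
open Cfsg.Agent.Nodes.KindA (g fi fi_inj fi_ne fi_val isRoot_g g_orth frameSys abs_cpr_le_one exists_signed exists_w)
open Cfsg.Agent.LieRecognition.BNCox (cA cA_apply)
open Cfsg.Agent.TitsThree.KSideA (tv tv_neg tv_commute tv_zero tv_add)
open Cfsg.Agent.OddHalf.NI.ClosedSL (emb)
open Cfsg.Agent.H310.OQ.Psl
open Cfsg.Agent.H69.OQ (NoFix)
open Cfsg.Agent.H311.K547 (E2 e2_pow e2_pow_odd odd_int)
open Cfsg.Agent.ODD.Cv (CE prj)

theorem e2_sl {q : ℕ} (hq : 2 ≤ q) (ho : Odd q) (N : ℕ) :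
    E2 (∏ i ∈ Finset.range N, (q ^ (i + 1) - 1)) ((q - 1) ^ N * (q + 1) ^ (N / 2) * (N / 2).factorial) := by
  have hq1 : ∀ i, 1 < q ^ (i + 1) := fun i => Nat.one_lt_pow i.succ_ne_zero hq
  obtain ⟨c, hc⟩ := id ho
  have he : ∀ j, E2 (q ^ (2 * j + 1) - 1) (q - 1) := fun j =>
    e2_pow_odd (x := q) (y := 1) ⟨c, by rw [hc]; push_cast; ring⟩ (odd_int ho) (k := 2 * j + 1) ⟨j, rfl⟩
      (by rw [Nat.cast_sub (hq1 _).le]; push_cast; ring) (by rw [Nat.cast_sub (by omega)]; push_cast; ring)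
      (by have := hq1 (2 * j); omega) (by omega)
  have h1 : ∀ j, E2 (q ^ (2 * j + 1 + 1) - 1) ((q - 1) * (q + 1) * (j + 1)) := fun j => by
    refine e2_pow (x := (q : ℤ) ^ 2) (y := 1) ⟨c * (c + 1), by rw [hc]; push_cast; ring⟩
      (fun h => odd_int ho (Int.prime_two.dvd_of_dvd_pow h)) (j + 1) ?_ ?_ (by have := hq1 (2 * j + 1); omega)
      (Nat.mul_ne_zero (Nat.mul_ne_zero (by omega) (by omega)) (by omega))
    · rw [Nat.cast_sub (hq1 _).le]
      push_cast
      ring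
    · rw [Nat.cast_mul, Nat.cast_mul, Nat.cast_sub (by omega)]
      push_cast
      ring
  have h2 : ∀ m, E2 (∏ i ∈ Finset.range (2 * m), (q ^ (i + 1) - 1)) ((q - 1) ^ (2 * m) * (q + 1) ^ m * m.factorial) := by
    intro m
    induction m with
    | zero => simpa using E2.refl 1
    | succ m ih =>
      rw [show 2 * (m + 1) = 2 * m + 1 + 1 by ring, Finset.prod_range_succ, Finset.prod_range_succ,
        show (q - 1) ^ (2 * m + 1 + 1) * (q + 1) ^ (m + 1) * (m + 1).factorial =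
          (q - 1) ^ (2 * m) * (q + 1) ^ m * m.factorial * (q - 1) * ((q - 1) * (q + 1) * (m + 1)) by
          rw [Nat.factorial_succ]; ring]
      exact (ih.mul (he m)).mul (h1 m)
  rcases Nat.even_or_odd' N with ⟨m, rfl | rfl⟩
  · rw [show 2 * m / 2 = m by omega]
    exact h2 m
  · rw [show (2 * m + 1) / 2 = m by omega, Finset.prod_range_succ, show (q - 1) ^ (2 * m + 1) * (q + 1) ^ m * m.factorial =
      (q - 1) ^ (2 * m) * (q + 1) ^ m * m.factorial * (q - 1) by ring]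
    exact (h2 m).mul (he m)

section comb

variable {n : ℕ} {W : Type} [Group W] [Finite W] (cs : CoxeterSystem (cA n) W)

theorem cmb_A : GX.Cmb cs (isCartan n) (g n) := by
  refine ⟨isRoot_g cs _, fun a b hab => g_orth cs _ hab, fun w b ho => ?_⟩
  have hx := (isRoot_g cs (isCartan n) b).act w
  generalize rep cs (isCartan n) w (g n b) = x at ho hx
  obtain ⟨a, ha⟩ := not_forall.1 ((frameSys cs (isCartan n)).max x hx)
  have h1 := abs_cpr_le_one cs _ hx (isRoot_g cs _ a) (ho a).1 (ho a).2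
  have h2 := abs_cpr_le_one cs _ (isRoot_g cs _ a) hx (ho a).1.symm fun e => (ho a).2 (by rw [e, neg_neg])
  have h3 := mt (cpr_zero_comm cs _ hx (isRoot_g cs _ a)).2 ha
  rw [abs_le] at h1 h2
  exact ⟨a, Int.odd_iff.2 (by omega), Int.odd_iff.2 (by omega)⟩

theorem g_eq (a : Fin ((n + 1) / 2)) : g n a = sr ⟨2 * a, by have := a.2; omega⟩ := by
  rw [← rtA_sr]
  rfl

theorem rtA_rev (a b : Fin (n + 1)) : rtA a b ∘ (Fin.revPerm (n := n)).symm = rtA b.rev a.rev := by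
  funext k
  have := a.2
  have := b.2
  have := k.2
  simp only [Function.comp_apply, rtA_apply, Fin.revPerm_symm, Fin.revPerm_apply, Fin.val_rev]
  split_ifs <;> omega

/-- **type `A`** -/
theorem au_A {Y ι : Type} [Group Y] [Finite Y] [Fintype ι] {p : ℕ} {T : Subgroup Y} {m : Fin n → Y}
    {X : (Fin n → ℤ) → Subgroup Y} (R : RGD cs (isCartan n) p T m X) {β : ι → Fin n → ℤ}
    (hr : ∀ a, IsRoot cs (isCartan n) (β a)) : Au R β ⊤ := by
  intro γ _ σ D
  rcases H69.CosetP.path_aut (M := cA n) (fun i j hij => by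
    have h1 : (i : ℕ) ≠ j := fun e => hij (Fin.ext e)
    rw [cA_apply]
    unfold LieRecognition.CoxClass.mA
    split_ifs <;> omega) (D.matrix R) with h1 | h1
  · obtain rfl : σ = 1 := Equiv.ext h1
    refine ⟨1, one_mem _, fun a => ⟨a, Or.inl ?_⟩⟩
    rw [map_one, one_mul]
    exact ⟨D.root_comp R (fun _ _ => rfl) (hr a), D.root_comp R (fun _ _ => rfl) (hr a).neg⟩
  · obtain rfl : σ = Fin.revPerm := Equiv.ext h1
    obtain ⟨w, hw⟩ := exists_w cs (isCartan n) Fin.revPerm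
    obtain ⟨k, hk⟩ := exists_rp cs R.nsys w
    have h2 : ∀ x, IsRoot cs (isCartan n) x → ∀ y, (MulAut.conj k * γ) y ∈ X (-x) ↔ y ∈ X x := fun x hx y => by
      have h3 := D.root_comp R (fun i j => by
        have := i.2
        have := j.2
        simp only [AA, Fin.revPerm_apply, Fin.val_rev, Fin.ext_iff]
        split_ifs <;> omega) hx y
      obtain ⟨a, b, hab, rfl⟩ := exists_of_isRoot cs _ hx
      have h4 := R.conj_rp hk (isRoot_rtA cs (isCartan n) (Fin.rev_injective.ne hab.symm))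
      rw [hw, Fin.revPerm_apply, Fin.revPerm_apply, Fin.rev_rev, Fin.rev_rev] at h4
      rw [rtA_neg, ← h4, ← h3, rtA_rev]
      exact conj_mem_cj
    exact ⟨k, ⟨w, hk⟩, fun a => ⟨a, Or.inr ⟨h2 _ (hr a), h2 _ (hr a).neg⟩⟩⟩

end comb

section sl

variable {n : ℕ} {F : Type} [Field F] [Fintype F]

theorem sq_sl : Sq (cA n).toCoxeterSystem (isCartan n) (ns n F) (X F) := by
  refine ⟨fun i => ?_, fun i x hx he y hy => ?_, fun i x hx he y hy => ?_⟩
  · rw [ns_eq, ← map_pow, ← map_pow, ww_sq_sq, map_one]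
  · obtain ⟨a, b, hab, rfl⟩ := exists_of_isRoot _ _ hx
    rw [X_rtA hab] at hy
    obtain ⟨t, rfl⟩ := hy
    rw [← mul_inv_eq_iff_eq_mul, sq_conj i hab]
    have h3 := (par (isCartan n) i a b).1 he
    congr 1
    unfold sg
    by_cases h5 : a = i.castSucc ∨ a = i.succ
    · rw [if_pos h5, if_pos (h3.1 h5)]
      norm_num
    · rw [if_neg h5, if_neg fun h6 => h5 (h3.2 h6)]
      norm_num
  · obtain ⟨a, b, hab, rfl⟩ := exists_of_isRoot _ _ hx
    rw [X_rtA hab] at hy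
    obtain ⟨t, rfl⟩ := hy
    rw [sq_conj i hab, ← tv_neg]
    have h3 := mt (par (isCartan n) i a b).2 he
    congr 1
    unfold sg
    by_cases h5 : a = i.castSucc ∨ a = i.succ
    · rw [if_pos h5, if_neg fun h6 => h3 ⟨fun _ => h6, fun _ => h5⟩]
      norm_num
    · have h6 : b = i.castSucc ∨ b = i.succ := by
        by_contra h6
        exact h3 ⟨fun h7 => absurd h7 h5, fun h7 => absurd h7 h6⟩
      rw [if_neg h5, if_pos h6]
      norm_num

theorem nofix_four {W : Type} [Group W] (cs : CoxeterSystem (cA n) W) (h2 : (2 : F) ≠ 0) {c : Fˣ}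
    (hc : c ^ 2 = -1) : NoFix cs (isCartan n) (T (Fin (n + 1)) F) (X F) := by
  intro x hx u hu h1
  obtain ⟨a, b, hab, rfl⟩ := exists_of_isRoot cs _ hx
  rw [X_rtA hab] at hu
  obtain ⟨s, rfl⟩ := hu
  have h3 := h1 _ (mono_dd hab c) ⟨2, by
    rw [← map_pow, ← map_pow, show 2 ^ 2 = 2 * 2 from rfl, pow_mul, hc, neg_one_sq, map_one, map_one]⟩
  have h4 := (mono_dd hab c).conj_tv hab s
  rw [h3, mul_inv_cancel_right, emb_dd] at h4
  have h5 := tv_inj hab h4
  have h6 : (c : F) * c = -1 := by simpa [pow_two] using congrArg Units.val hc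
  simp only [Equiv.Perm.coe_one, id_eq, diagonal_apply_eq, if_true, if_neg hab.symm, Units.val_inv_eq_inv_val,
    inv_inv] at h5
  have h7 : 2 * s = 0 := by linear_combination h5 + s * h6
  rw [(mul_eq_zero.1 h7).resolve_left h2, tv_zero]

theorem mono_diag {ι : Type} [Fintype ι] [DecidableEq ι] {σ : Equiv.Perm ι} {k s t : SpecialLinearGroup ι F}
    (hk : Mono σ k) {d e : ι → F} (hs : s.1 = diagonal d) (ht : t.1 = diagonal e) (h : ∀ b, e (σ b) = d b) :
    t * k = k * s := by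
  refine Subtype.ext (Matrix.ext fun a b => ?_)
  show (t.1 * k.1) a b = (k.1 * s.1) a b
  rw [hs, ht, diagonal_mul, mul_diagonal]
  by_cases h0 : k.1 a b = 0
  · rw [h0, mul_zero, zero_mul]
  · rw [hk a b h0, h, mul_comm]

variable (p : ℕ) [Fact p.Prime] [CharP F p]

theorem ab_sl : GX.Ab (X (n := n) F) := fun i a ha b hb => by
  rw [X_sr] at ha hb
  obtain ⟨s, rfl⟩ := ha
  obtain ⟨t, rfl⟩ := hb
  rw [← tv_add, ← tv_add, add_comm s]

theorem nd_sl (hn : 2 ≤ n) (i : Fin n) : haveI := finA n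
    Nd (rSL n F p) (sr i) (emb (F := F) (Fin.castSucc_lt_succ (i := i)).ne) := by
  have := finA n
  have hab : i.castSucc ≠ i.succ := (Fin.castSucc_lt_succ (i := i)).ne
  refine ⟨isRoot_sr _ _ i, fun y => ?_, ⟨_, ns_eq (F := F) i ▸ rp_simple _ _ i, rep_simple_sr _ _ i⟩,
    fun c => mono_dd hab c, fun c => ?_⟩
  · rw [ab_sl.zc_eq (rSL n F p) (isRoot_sr _ _ i), X_sr]
    exact exists_congr fun t => by rw [emb_uu, eq_comm]
  · obtain ⟨e, h1, h2⟩ := Fin.exists_ne_and_ne_of_two_lt i.castSucc i.succ (by omega)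
    refine ⟨_, mono_dd h2.symm c, ?_⟩
    rw [eq_mul_inv_iff_mul_eq, eq_mul_inv_iff_mul_eq, ← ns_eq]
    refine mono_diag (mono_ns i) (emb_dd h2.symm c) ((congrArg₂ (· * ·) (emb_dd hab c) (emb_dd h2.symm c)).trans
      (diagonal_mul_diagonal _ _)) fun b => ?_
    by_cases h3 : b = i.castSucc
    · simp [h3, hab, hab.symm, h1.symm]
    · by_cases h4 : b = i.succ
      · simp [h4, hab, h1.symm]
      · rw [Equiv.swap_apply_of_ne_of_ne h3 h4]
        simp [h3, h4]

theorem orth_sl (a b : Fin ((n + 1) / 2)) (hab : a ≠ b) : ∀ u ∈ LZ (X F) (g n a), ∀ v ∈ LZ (X F) (g n b), Commute u v := by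
  have h1 : ∀ a, LZ (X F) (g n a) ≤ XX F (fi n a 0) (fi n a 1) ⊔ XX F (fi n a 1) (fi n a 0) := fun a => by
    rw [LZ, g, rtA_neg, X_rtA (fi_ne a), X_rtA (fi_ne a).symm]
    exact sup_le_sup inf_le_left inf_le_left
  have h2 : ∀ e e' f f', XX F (fi n a e) (fi n a e') ≤ Subgroup.centralizer (XX F (fi n b f) (fi n b f')) := by
    rintro e e' f f' _ ⟨s, rfl⟩ _ ⟨t, rfl⟩
    exact (tv_commute (fun h => hab (fi_inj h).1) (fun h => hab (fi_inj h).1) s t).symm
  have h3 : XX F (fi n a 0) (fi n a 1) ⊔ XX F (fi n a 1) (fi n a 0) ≤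
      Subgroup.centralizer (XX F (fi n b 0) (fi n b 1) ⊔ XX F (fi n b 1) (fi n b 0) : Subgroup _) := sup_le
    (Subgroup.le_centralizer_iff.1 (sup_le (Subgroup.le_centralizer_iff.1 (h2 _ _ _ _))
      (Subgroup.le_centralizer_iff.1 (h2 _ _ _ _))))
    (Subgroup.le_centralizer_iff.1 (sup_le (Subgroup.le_centralizer_iff.1 (h2 _ _ _ _))
      (Subgroup.le_centralizer_iff.1 (h2 _ _ _ _))))
  exact fun u hu v hv => (h3 (h1 a hu) v (h1 b hv)).symm

include p in
theorem card_T : (Fintype.card F - 1) * Nat.card (T (Fin (n + 1)) F) = (Fintype.card F - 1) ^ (n + 1) := by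
  have := finA n
  let π : (Fin (n + 1) → Fˣ) →* Fˣ := MonoidHom.mk' (fun d => ∏ i, d i) fun _ _ => Finset.prod_mul_distrib
  have h5 : (ldSL n F p).τ.range = (⊥ : Subgroup Fˣ).comap π := Subgroup.ext fun d =>
    ⟨fun ⟨t, e⟩ => e ▸ (ldSL n F p).τ_mem t, fun hd => (ldSL n F p).τ_surj hd⟩
  have h6 := Subgroup.index_comap_of_surjective (⊥ : Subgroup Fˣ) (f := π) fun x =>
    ⟨Pi.mulSingle 0 x, Fintype.prod_pi_mulSingle' (0 : Fin (n + 1)) x⟩
  rw [Subgroup.index_bot, Nat.card_units, Nat.card_eq_fintype_card] at h6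
  rw [Nat.card_congr (MonoidHom.ofInjective (ldSL n F p).τ_inj).toEquiv, h5, mul_comm]
  nth_rw 1 [← h6]
  rw [Subgroup.card_mul_index, Nat.card_fun, Nat.card_units, Nat.card_eq_fintype_card, Nat.card_eq_fintype_card,
    Fintype.card_fin]

theorem odd_sl (hF : Odd (Fintype.card F)) (hn : 2 ≤ n) : haveI := finA n; Odd (MM (rSL n F p) (g n)).index := by
  have := finA n
  have h1 : 2 ≤ Fintype.card F := Fintype.one_lt_card
  have h2 : (2 : F) ≠ 0 := Ring.two_ne_zero (FA.two_ne_of_odd hF)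
  refine odd_of_count _ Fact.out (gg_sl n F) (ldSL n F p).T_comm (H69.OQ.nofix_sl _ _ hn h2) (k := F)
    (fun a => ⟨_, g_eq a ▸ nd_sl p hn _⟩) orth_sl
    (fun σ => (exists_signed _ _ σ fun _ => true).imp fun w hw a => Or.inl (hw a)) fun j hj =>
    dvd_of_e2 (c := Fintype.card F - 1) (by omega) ?_ hj
  rw [H87.HerB.card_sl (n + 1) (by omega), ← mul_assoc, ← mul_assoc, card_T p, Nat.card_eq_fintype_card,
    Fintype.card_fin]
  exact (E2.odd_mul hF.pow).trans (e2_sl h1 hF _)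

theorem sq_ne (h2 : (2 : F) ≠ 0) (hn : 2 ≤ n) (i : Fin n) : pr n F (ns n F i ^ 2) ≠ 1 := fun h => by
  obtain ⟨r, -, e⟩ := Matrix.SpecialLinearGroup.mem_center_iff.1 (ker_pr.le h)
  have h1 : ∀ c, sg F i c = r := fun c => by
    rw [← sq_apply, ← show scalar (Fin (n + 1)) r = (ns n F i ^ 2).1 from e, scalar_apply, diagonal_apply_eq]
  obtain ⟨c, h3, h4⟩ := Fin.exists_ne_and_ne_of_two_lt i.castSucc i.succ (by omega)
  have h5 := (h1 c).trans (h1 i.castSucc).symm
  rw [sg, sg, if_neg (not_or.2 ⟨h3, h4⟩), if_pos (Or.inl rfl)] at h5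
  exact h2 (by linear_combination h5)

end sl

section rows

variable (hm : MainC) {F : Type} [Field F] [Fintype F] (hF : Odd (Fintype.card F)) {Y : Type} [Group Y] [Finite Y]
  {Γ : Subgroup (MulAut Y)}

include hm hF

/-- **`PSL_{n+1}(q)`, `n ≥ 2`** -/
theorem gd_psl {n : ℕ} (hn : 2 ≤ n) {f : Y →* ProjectiveSpecialLinearGroup (Fin (n + 1)) F} (c : CE (ringChar F) f)
    (s : Sit Y Γ) : Gd Y Γ := by
  have := finA n
  have hp : (ringChar F).Prime := CharP.char_is_prime F _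
  have : Fact (ringChar F).Prime := ⟨hp⟩
  have : Finite (ProjectiveSpecialLinearGroup (Fin (n + 1)) F) := Finite.of_surjective _ pr_surjective
  have := LieClassical.SLGen.psl_isSimpleGroup (ι := Fin (n + 1)) (F := F) (by rw [Fintype.card_fin]; omega)
  have hp2 := FA.two_ne_of_odd hF
  have h2 : (2 : F) ≠ 0 := Ring.two_ne_zero hp2
  have hk := (ker_pr (n := n) (F := F)).le
  have R := rSL n F (ringChar F)
  have R' := rgd_psl (F := F) (p := ringChar F) (cA n).toCoxeterSystem (isCartan n)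
  have hc := (ldSL n F (ringChar F)).T_comm
  have hnf := H69.OQ.nofix_sl (F := F) (cA n).toCoxeterSystem (isCartan n) hn h2
  have hnf' := hnf.map R.tor _ hk
  have hG := top_map pr_surjective (gg_sl n F)
  have C := cmb_A (cA n).toCoxeterSystem
  refine hm R' (g n) ⟨hp, hp2, hG, C.root, fun a => g_eq a ▸ GX.rk_nd (nd_map R R' hk hnf (nd_sl _ hn _)),
    orth_map hk hnf C.root orth_sl, C.weyl, syl_dg R' hG (comm_map hc) hnf' (faith_map R R' hk hc (sq_sl.faith R hp hp2))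
      (dg_psl hF (by omega) (by omega)) (odd_map R R' pr_surjective hk hnf C.root (odd_sl _ hF hn)),
    ne_of_cen R' hp hnf' C.root ⟨0, by omega⟩ (sq_ne h2 hn ⟨0, by omega⟩) fun a => ?_⟩ (au_A _ R' C.root) (comm_map hc)
    hnf' Y f c Γ s
  rw [LZ_map hk hnf (C.root a)]
  rintro _ ⟨y, hy, rfl⟩
  have h3 : ∀ e e', (fi n a e = (⟨0, by omega⟩ : Fin n).castSucc ∨ fi n a e = (⟨0, by omega⟩ : Fin n).succ) →
      (fi n a e' = (⟨0, by omega⟩ : Fin n).castSucc ∨ fi n a e' = (⟨0, by omega⟩ : Fin n).succ) := fun e e' => by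
    have := e.2
    have := e'.2
    simp only [Fin.ext_iff, fi_val, Fin.val_castSucc, Fin.val_succ]
    omega
  have h4 : ∀ e e', fi n a e ≠ fi n a e' → zc (X F (rtA (fi n a e) (fi n a e'))) ≤
      Subgroup.centralizer {ns n F ⟨0, by omega⟩ ^ 2} := fun e e' h u hu =>
    Subgroup.mem_centralizer_singleton_iff.2
      (sq_sl.even _ _ (isRoot_rtA _ _ h) ((par (isCartan n) _ _ _).2 ⟨h3 _ _, h3 _ _⟩) u hu.1).symm
  rw [LZ, g, rtA_neg] at hy
  rw [← map_mul, ← map_mul, Subgroup.mem_centralizer_singleton_iff.1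
    (sup_le (h4 _ _ (fi_ne a)) (h4 _ _ (fi_ne a).symm) hy)]

/-- **`PSL₂(q)`, `q ≡ 1 mod 8`** -/
theorem gd_l2_one (h8 : Fintype.card F % 8 = 1) {f : Y →* ProjectiveSpecialLinearGroup (Fin 2) F}
    (c : CE (ringChar F) f) (s : Sit Y Γ) : Gd Y Γ := by
  have := finA 1
  have hp : (ringChar F).Prime := CharP.char_is_prime F _
  have : Fact (ringChar F).Prime := ⟨hp⟩
  have : Finite (ProjectiveSpecialLinearGroup (Fin (1 + 1)) F) := Finite.of_surjective _ pr_surjective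
  have h1 : 1 < Fintype.card F := Fintype.one_lt_card
  have := LieClassical.SLGen.psl_isSimpleGroup_of_perfect (Cv.sl_perf (F := F) (n := 1 + 1) le_rfl fun _ => by omega)
  have hp2 := FA.two_ne_of_odd hF
  have h2 : (2 : F) ≠ 0 := Ring.two_ne_zero hp2
  have hk := (ker_pr (n := 1) (F := F)).le
  have R := rSL 1 F (ringChar F)
  have R' := rgd_psl (F := F) (p := ringChar F) (cA 1).toCoxeterSystem (isCartan 1)
  have hc := (ldSL 1 F (ringChar F)).T_comm
  obtain ⟨i, hi⟩ := FiniteField.isSquare_neg_one_iff.2 (show Fintype.card F % 4 ≠ 3 by omega)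
  have hnf := nofix_four (F := F) (cA 1).toCoxeterSystem h2 (c := Units.mk0 i fun h => by simp [h] at hi)
    (Units.ext (by simpa [pow_two] using hi.symm))
  have hnf' := hnf.map R.tor _ hk
  have hG := top_map pr_surjective (gg_sl 1 F)
  have hr : ∀ a : Empty, IsRoot (cA 1).toCoxeterSystem (isCartan 1) a.elim := fun a => a.elim
  exact hm R' Empty.elim ⟨hp, hp2, hG, hr, fun a => a.elim, fun a => a.elim, ⟨default, fun _ _ a => a.elim⟩,
    syl_dg R' hG (comm_map hc) hnf' (faith_map R R' hk hc (sq_sl.faith R hp hp2)) (dg_psl hF le_rfl fun _ => Or.inl h8)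
      (odd_map R R' pr_surjective hk hnf hr (odd_of_empty R (gg_sl 1 F) hnf (odd_norm_sl F _ (by omega)))),
    ne_of_empty R' (comm_map hc) hnf' 0⟩ (au_A _ R' hr) (comm_map hc) hnf' Y f c Γ s

end rows

/-- **`PSL₂(9)`**, trivial centre -/
theorem gd_l29 (h : Steps) {F : Type} [Field F] [Fintype F] (hF : Fintype.card F = 9) {Y : Type} [Group Y] [Finite Y]
    (e : Y ≃* ProjectiveSpecialLinearGroup (Fin 2) F) {Γ : Subgroup (MulAut Y)} (s : Sit Y Γ) : Gd Y Γ := by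
  have h1 : e.toMonoidHom.ker = ⊥ := (MonoidHom.ker_eq_bot_iff _).2 e.injective
  exact gd_l2_one (mainC h) (by rw [hF]; decide) (by rw [hF]) (f := e.toMonoidHom) ⟨e.surjective, h1 ▸ bot_le,
    by rw [h1, Subgroup.card_bot]; exact Nat.coprime_one_left _, by rw [h1, Subgroup.card_bot]; exact odd_one⟩ s

/-- **the row of `PSL_n(q)`, `q` odd** -/
theorem row_psl (h : Steps) : Row PslO := by
  intro Y _ _ c Γ s
  obtain ⟨F, _, _, n, hF, hn, h4, ⟨e⟩⟩ := c.fam
  by_cases h9 : n = 2 ∧ Fintype.card F = 9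
  · obtain ⟨rfl, h9⟩ := h9
    obtain ⟨f⟩ := S0254.result h9
    have h1 := Cv.card_center_dvd c ((Cv.MB.of_cyc (S2116.result 6 (Or.inl rfl))).congr (e.trans f))
    rcases (Nat.dvd_prime Nat.prime_three).1 ((Nat.coprime_two_right.2 c.odd).dvd_of_dvd_mul_left
      (show _ ∣ 2 * 3 from h1)) with h2 | h2
    · exact gd_l29 h h9 ((Cv.eqv (Subgroup.card_eq_one.1 h2)).trans e) s
    · exact A.gd_three_six h.sm s h9 e h2
  have h1 := Cv.card_center_dvd c ((Cv.mb_psl_odd hF hn h4 h9).congr e)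
  rw [Cv.card_ker_prL hn] at h1
  have C : CE (ringChar F) (prj e) := GX.ce_of_cop c e (by
    have hp : (ringChar F).Prime := CharP.char_is_prime F _
    obtain ⟨m, -, hm⟩ := FiniteField.card F (ringChar F)
    have h5 : ringChar F ∣ Fintype.card F := hm ▸ dvd_pow_self _ m.pos.ne'
    exact (((Nat.coprime_self_sub_left Fintype.card_pos).2 (Nat.coprime_one_left _)).coprime_dvd_right
      h5).coprime_dvd_left (h1.trans (Nat.gcd_dvd_right _ _)))
  rcases hn.eq_or_lt with rfl | hn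
  · by_cases h8 : Fintype.card F % 8 = 1
    · exact gd_l2_one (mainC h) hF h8 C s
    · exact L.gd_l2 h c s hF h8 (h4 rfl) ⟨e⟩
  · obtain ⟨n, rfl⟩ : ∃ k, n = k + 1 := ⟨n - 1, by omega⟩
    exact gd_psl (mainC h) hF (by omega) C s

/-- **the row of the alternating groups** -/
theorem row_alt (h : Steps) : Row fun S _ => IsAlternating S := A.row_alt h.sm (row_psl h)

end Cfsg.Agent.MK.GA
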