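import Cfsg.Agent.MK.GX.Fr
import Cfsg.Agent.MK.G.Rgd

/-!
# MK-G-A: tools for the data `GD` (helper2)

`odd_of_count`, `syl_dg`, `ne_of_cen`, `ne_of_empty`, `odd_of_empty`.
-/

set_option autoImplicit false
set_option linter.unusedSectionVars false
set_option maxHeartbeats 400000

namespace Cfsg.Agent.MK.GA

open Cfsg Matrix CoxeterSystem Cfsg.Agent.ChevalleyStructure.CoxeterGeom Cfsg.Agent.Tits.Roots Cfsg.Agent.Nodes.Reps
  Cfsg.Agent.Nodes.BNOf Cfsg.Agent.Nodes.Bruhat Cfsg.Agent.KFacts.RgdAut Cfsg.Agent.KFacts.RgdDiag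
  Cfsg.Agent.ClosedExc.Frame Cfsg.Agent.ODD.QB Cfsg.Agent.MK.G Cfsg.Agent.GAL.Nrm

variable {I W Y ι : Type} [Fintype I] [DecidableEq I] [Group W] [Finite W] [Group Y] [Finite Y] [Fintype ι]
  {M : CoxeterMatrix I} {cs : CoxeterSystem M W} {A : I → I → ℤ} {h : IsCartan M A} {p : ℕ} {T : Subgroup Y}
  {n : I → Y} {X : (I → ℤ) → Subgroup Y} (R : RGD cs h p T n X) {β : ι → I → ℤ}

/-- **The index of the subgroup of the frame, by the order of the group.** -/
theorem odd_of_count (hp : p.Prime) (hG : GG cs h T X = ⊤) (hc : ∀ a ∈ T, ∀ b ∈ T, a * b = b * a)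
    (hnf : H69.OQ.NoFix cs h T X) {k : Type} [Field k] [Finite k]
    (hN : ∀ a, ∃ Φ : SpecialLinearGroup (Fin 2) k →* Y, Nd R (β a) Φ)
    (ho : ∀ a b, a ≠ b → ∀ u ∈ LZ X (β a), ∀ v ∈ LZ X (β b), Commute u v)
    (hσ : ∀ σ : Equiv.Perm ι, ∃ w, ∀ a, rep cs h w (β a) = β (σ a) ∨ rep cs h w (β a) = -β (σ a))
    (hord : ∀ j : ℕ, 2 ^ j ∣ Nat.card Y →
      2 ^ j ∣ Nat.card T * (Nat.card k + 1) ^ Fintype.card ι * (Fintype.card ι).factorial) :
    Odd (MM R β).index := by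
  obtain ⟨β', Φ, h1, h0, N⟩ := exists_pos hN
  have h2 : ∀ a, LZ X (β' a) = LZ X (β a) := fun a => (h1 a).elim (fun e => by rw [e]) fun e => by rw [e, LZ_neg]
  have h1' : ∀ a, β a = β' a ∨ β a = -β' a := fun a => (h1 a).imp Eq.symm fun e => by rw [e, neg_neg]
  have F := fr_of_nd hG hc hnf N h0 fun a b hab => by rw [h2, h2]; exact ho a b hab
  have h3 := F.dvd_card (fun a => (N a).card_conj (h0 a)) fun σ => by
    obtain ⟨w, hw⟩ := hσ σ
    obtain ⟨g, hg⟩ := exists_rp cs R.nsys w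
    exact ⟨g, hg.mem_normalizer, acts_rp (R := R) (fun a => (N a).root) F.inj hg fun a =>
      pm_trans (h1 a) (h1 (σ a)) (hw a)⟩
  have h4 : (⨆ a, KK (Zr X β') a) ⊔ (NH T (Zr X β')).comap MulAut.conj ≤ MM R β := by
    refine sup_le_sup (iSup_mono fun a => (h2 a).le) ?_
    rintro g ⟨hg, π, -, hπ⟩
    obtain ⟨w, hw⟩ := H491.Sd.exists_rp_of_norm R hG (noFix_of R hnf) (fix_conj.1 hg)
    refine ⟨w, fun a => ⟨(π (a, true)).1, pm_trans (h1' a) (h1' _) ?_⟩, hw⟩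
    have h5 := hπ (a, true)
    generalize π (a, true) = z at h5
    obtain ⟨b, s⟩ := z
    have h6 : rep cs h w (β' a) = cond s (β' b) (-β' b) :=
      zc_inj R hp ((N a).root.act w) (by cases s; exacts [(N b).root.neg, (N b).root]) (Subgroup.ext fun y => by
        obtain ⟨y, rfl⟩ := (MulAut.conj g).surjective y
        exact (zc_cj (R.conj_rp hw (N a).root) y).trans (h5 y).symm)
    cases s
    exacts [Or.inr h6, Or.inl h6]
  have h5 := h3.trans (Subgroup.card_dvd_of_le h4)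
  generalize MM R β = H at h5
  rw [← Nat.not_even_iff_odd, even_iff_two_dvd]
  intro h6
  refine Nat.pow_succ_factorization_not_dvd (Nat.card_pos (α := H)).ne' Nat.prime_two ((hord _ ?_).trans h5)
  rw [← H.card_mul_index, pow_succ]
  exact mul_dvd_mul (Nat.ordProj_dvd _ 2) h6

/-- the normaliser of a Sylow subgroup -/
theorem syl_dg (hG : GG cs h T X = ⊤) (hc : ∀ a ∈ T, ∀ b ∈ T, a * b = b * a) (hnf : H69.OQ.NoFix cs h T X)
    (hf : H684.OQ.TWFaithful cs T n R.nsys) (hdg : AllDG Y) (ho : Odd (MM R β).index) :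
    ∃ Q : Sylow 2 Y, Subgroup.normalizer ((Q : Subgroup Y) : Set Y) ≤ MM R β := by
  have hT : T ≤ MM R β := (T_le_NP R).trans le_sup_right
  obtain ⟨Q₀, h1, h2, h3, h4⟩ := H55.Sd.exists_syl (H := MM R β) (isPGroup_T2 hc) (fun t ht => hT ht.1)
  obtain ⟨Q, rfl⟩ := MK.exists_sylow h3 (by rw [← Subgroup.relIndex_mul_index h1]; exact h4.mul ho)
  refine ⟨Q, fun g hg => ?_⟩
  obtain ⟨a, k, j, hj, h5, h6⟩ := exists_parts g
  have h7 := hj.of_dvd_nat (orderOf_dvd_of_pow_eq_one h6)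
  have h8 := hdg Q _ (mul_mem (inv_mem (pow_mem hg a)) hg) h7
  rw [← mul_inv_cancel_left (g ^ a) g]
  exact mul_mem (h1 (mem_of_pow_mem Q (pow_mem hg a) (k := k) (h5 ▸ one_mem _)))
    (hT (H381.OQ.mem_T_of_cent R hG hnf (hc := hc) hf (Subgroup.centralizer_le h2 h8) h7))

include R in
theorem not_comm (hnf : H69.OQ.NoFix cs h T X) (i : I) : ¬ ∀ a b : Y, a * b = b * a := fun h1 =>
  X_ne_bot R (isRoot_sr cs h i) ((Subgroup.eq_bot_iff_forall _).2 fun u hu => hnf _ (isRoot_sr cs h i) u hu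
    fun t _ _ => h1 t u)

/-- an element which centralises the rank one groups of the frame -/
theorem ne_of_cen [IsSimpleGroup Y] (hp : p.Prime) (hnf : H69.OQ.NoFix cs h T X) (hr : ∀ a, IsRoot cs h (β a))
    (a : ι) {z : Y} (hz : z ≠ 1) (h0 : ∀ a, ∀ y ∈ LZ X (β a), y * z = z * y) : MM R β ≠ ⊤ := by
  intro h2
  rw [MM_def] at h2
  have h4 : (⨆ a, LZ X (β a)) = ⊤ := by
    refine (Subgroup.Normal.eq_bot_or_eq_top (Subgroup.normalizer_eq_top_iff.1 (top_le_iff.1 (h2 ▸ sup_le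
      Subgroup.le_normalizer ?_)))).resolve_left fun e =>
        zc_ne_bot R hp (hr a) (le_bot_iff.1 (e ▸ le_sup_left.trans (le_iSup (fun a => LZ X (β a)) a)))
    have h5 : ∀ g ∈ NP R (WD cs h β), cj g (⨆ a, LZ X (β a)) ≤ ⨆ a, LZ X (β a) := by
      rintro g ⟨w, hw, hg⟩
      rw [cj_iSup]
      refine iSup_le fun a => ?_
      obtain ⟨b, hb⟩ := hw a
      have h6 : cj g (LZ X (β a)) = LZ X (rep cs h w (β a)) := by
        rw [LZ, LZ, ← map_neg, ← cj_zc (R.conj_rp hg (hr a)), ← cj_zc (R.conj_rp hg (hr a).neg)]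
        exact Subgroup.map_sup _ _ _
      rw [h6]
      refine le_trans (le_of_eq ?_) (le_iSup (fun a => LZ X (β a)) b)
      rcases hb with hb | hb
      · rw [hb]
      · rw [hb, LZ_neg]
    intro g hg
    rw [mem_normalizer_iff_cj]
    exact le_antisymm (h5 g hg) (by simpa only [cj_cj_inv] using cj_mono g (h5 g⁻¹ (inv_mem hg)))
  have h5 : (⨆ a, LZ X (β a)) ≤ Subgroup.centralizer {z} := iSup_le fun a y hy =>
    Subgroup.mem_centralizer_singleton_iff.2 (h0 a y hy)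
  have h6 : z ∈ Subgroup.center Y := Subgroup.mem_center_iff.2 fun g =>
    Subgroup.mem_centralizer_singleton_iff.1 (h5 (h4 ▸ Subgroup.mem_top g))
  obtain ⟨-, i, -⟩ := hr a
  rcases Subgroup.Normal.eq_bot_or_eq_top (inferInstance : (Subgroup.center Y).Normal) with h7 | h7
  · exact hz (Subgroup.mem_bot.1 (h7 ▸ h6))
  · exact not_comm R hnf i fun a b => Subgroup.mem_center_iff.1 (h7 ▸ Subgroup.mem_top b) a

/-- the empty frame -/
theorem ne_of_empty [IsSimpleGroup Y] [IsEmpty ι] (hc : ∀ a ∈ T, ∀ b ∈ T, a * b = b * a)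
    (hnf : H69.OQ.NoFix cs h T X) (i : I) : MM R β ≠ ⊤ := by
  intro h2
  rw [MM_def, iSup_of_empty, bot_sup_eq] at h2
  have h3 : T.Normal := Subgroup.normalizer_eq_top_iff.1 (top_le_iff.1 (h2 ▸ fun g ⟨_, _, hg⟩ => hg.mem_normalizer))
  rcases h3.eq_bot_or_eq_top with h4 | h4
  · exact X_ne_bot R (isRoot_sr cs h i) ((Subgroup.eq_bot_iff_forall _).2 fun u hu => hnf _ (isRoot_sr cs h i) u hu
      fun t ht _ => by rw [(Subgroup.eq_bot_iff_forall _).1 h4 t ht, one_mul, mul_one])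
  · exact not_comm R hnf i fun a b => hc a (h4 ▸ Subgroup.mem_top a) b (h4 ▸ Subgroup.mem_top b)

theorem odd_of_empty [IsEmpty ι] (hG : GG cs h T X = ⊤) (hnf : H69.OQ.NoFix cs h T X)
    (ho : Odd (Subgroup.normalizer (T : Set Y)).index) : Odd (MM R β).index :=
  ho.of_dvd_nat (Subgroup.index_dvd_of_le fun g hg => Subgroup.mem_sup_right (by
    obtain ⟨w, hw⟩ := H491.Sd.exists_rp_of_norm R hG (noFix_of R hnf) hg
    exact ⟨w, fun a => isEmptyElim a, hw⟩))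

end Cfsg.Agent.MK.GA
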