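import Cfsg.Agent.MK.G.Defs
import Cfsg.Agent.H69.OQ.Map

/-!
# MK-G-A: frames and central quotients (helper2)
-/

set_option autoImplicit false
set_option linter.unusedSectionVars false
set_option maxHeartbeats 400000

namespace Cfsg.Agent.MK.GA

open Cfsg Matrix CoxeterSystem Cfsg.Agent.ChevalleyStructure.CoxeterGeom Cfsg.Agent.Tits.Roots Cfsg.Agent.Nodes.Reps
  Cfsg.Agent.Nodes.BNOf Cfsg.Agent.Nodes.Bruhat Cfsg.Agent.KFacts.RgdAut Cfsg.Agent.KFacts.RgdDiag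
  Cfsg.Agent.ClosedExc.Frame Cfsg.Agent.ODD.QB Cfsg.Agent.MK.G Cfsg.Agent.H69.OQ Cfsg.Agent.H684.OQ
  Cfsg.Agent.H310.OQ

variable {I W Y S ι : Type} [Fintype I] [DecidableEq I] [Group W] [Finite W] [Group Y] [Finite Y] [Group S] [Finite S]
  [Fintype ι] {M : CoxeterMatrix I} {cs : CoxeterSystem M W} {A : I → I → ℤ} {h : IsCartan M A} {p : ℕ}
  {T : Subgroup Y} {n : I → Y} {X : (I → ℤ) → Subgroup Y} {f : Y →* S}

theorem rp_map (N : NSys M T n) (N' : NSys M (T.map f) fun i => f (n i)) {w : W} {g : Y} (hg : Rp cs N w g) :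
    Rp cs N' w (f g) := by
  have key : ∀ w, ∃ a, Rp cs N w a ∧ Rp cs N' w (f a) := fun w => by
    induction w using cs.simple_induction_left with
    | one => exact ⟨1, rp_one, (map_one f).symm ▸ rp_one⟩
    | mul_simple_left w i ih =>
      obtain ⟨a, h1, h2⟩ := ih
      exact ⟨n i * a, (rp_simple _ _ i).mul h1, (map_mul f _ _).symm ▸ (rp_simple _ N' i).mul h2⟩
  obtain ⟨a, h1, h2⟩ := key w
  have h4 := h2.mul_mem_right (Subgroup.mem_map_of_mem f (h1.unique hg))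
  rwa [← map_mul, mul_inv_cancel_left] at h4

theorem zc_map (hf : f.ker ≤ Subgroup.center Y) (hnf : NoFix cs h T X) {x : I → ℤ} (hx : IsRoot cs h x) :
    zc ((X x).map f) = (zc (X x)).map f := by
  ext y
  constructor
  · rintro ⟨⟨u, hu, rfl⟩, h1⟩
    refine ⟨u, ⟨hu, fun v hv => ?_⟩, rfl⟩
    rw [← mul_inv_eq_one]
    refine hnf x hx _ (mul_mem (mul_mem hv hu) (inv_mem (mul_mem hu hv))) fun t _ _ =>
      Subgroup.mem_center_iff.1 (hf ?_) t
    rw [MonoidHom.mem_ker, map_mul, map_inv, map_mul, map_mul, h1 _ ⟨v, hv, rfl⟩, mul_inv_cancel]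
  · rintro ⟨u, ⟨hu, h1⟩, rfl⟩
    refine ⟨⟨u, hu, rfl⟩, ?_⟩
    rintro _ ⟨v, hv, rfl⟩
    rw [← map_mul, ← map_mul, h1 v hv]

theorem LZ_map (hf : f.ker ≤ Subgroup.center Y) (hnf : NoFix cs h T X) {x : I → ℤ} (hx : IsRoot cs h x) :
    LZ (fun x => (X x).map f) x = (LZ X x).map f := by
  rw [LZ, LZ, zc_map hf hnf hx, zc_map hf hnf hx.neg, Subgroup.map_sup]

variable (R : RGD cs h p T n X) (R' : RGD cs h p (T.map f) (fun i => f (n i)) fun x => (X x).map f)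

theorem nd_map (hf : f.ker ≤ Subgroup.center Y) (hnf : NoFix cs h T X) {k : Type} [Field k] {x : I → ℤ}
    {Φ : SpecialLinearGroup (Fin 2) k →* Y} (N : Nd R x Φ) : Nd R' x (f.comp Φ) := by
  refine ⟨N.root, fun g => ?_, N.ref.imp fun w hw => ⟨rp_map _ _ hw.1, hw.2⟩,
    fun c => Subgroup.mem_map_of_mem f (N.tor c), fun c => ?_⟩
  · rw [zc_map hf hnf N.root]
    constructor
    · rintro ⟨u, hu, rfl⟩
      obtain ⟨t, rfl⟩ := (N.up u).1 hu
      exact ⟨t, rfl⟩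
    · rintro ⟨t, rfl⟩
      exact ⟨_, (N.up _).2 ⟨t, rfl⟩, rfl⟩
  · obtain ⟨s, hs, e⟩ := N.ker c
    exact ⟨f s, Subgroup.mem_map_of_mem f hs, by simp only [MonoidHom.comp_apply, e, map_mul, map_inv]⟩

theorem comm_map (hc : ∀ a ∈ T, ∀ b ∈ T, a * b = b * a) : ∀ a ∈ T.map f, ∀ b ∈ T.map f, a * b = b * a := by
  rintro _ ⟨a, ha, rfl⟩ _ ⟨b, hb, rfl⟩
  rw [← map_mul, ← map_mul, hc a ha b hb]

theorem faith_map (hf : f.ker ≤ Subgroup.center Y) (hc : ∀ a ∈ T, ∀ b ∈ T, a * b = b * a)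
    (H : TWFaithful cs T n R.nsys) : TWFaithful cs (T.map f) (fun i => f (n i)) R'.nsys := by
  intro w g' hg' ho h1
  obtain ⟨g, hg⟩ := exists_rp cs R.nsys w
  refine H w g hg ho fun t ht ⟨k, hk⟩ => ?_
  have h2 := (rp_map R.nsys R'.nsys hg).unique hg'
  have h3 : g * t * g⁻¹ * t⁻¹ ∈ Subgroup.center Y := hf (by
    have h4 := h1 (f t) (Subgroup.mem_map_of_mem f ht) ⟨k, by rw [← map_pow, hk, map_one]⟩
    have h5 := comm_map hc _ h2 _ (Subgroup.mem_map_of_mem f ht)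
    rw [MonoidHom.mem_ker, map_mul, map_mul, map_mul, map_inv, map_inv, mul_inv_eq_one, mul_inv_eq_iff_eq_mul]
    refine mul_right_cancel (b := (f g)⁻¹ * g') ?_
    rw [mul_assoc (f g), ← h5, mul_assoc, mul_assoc, mul_inv_cancel_left, mul_inv_cancel_left, h4])
  obtain ⟨c, hc'⟩ : ∃ c, c = g * t * g⁻¹ * t⁻¹ := ⟨_, rfl⟩
  rw [← hc'] at h3
  have h4 : ∀ m : ℕ, g ^ m * t = c ^ m * t * g ^ m := fun m => by
    induction m with
    | zero => simp
    | succ m ih =>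
      have h5 : g * t = c * t * g := by rw [hc']; group
      rw [pow_succ', mul_assoc, ih, ← mul_assoc, ← mul_assoc, Subgroup.mem_center_iff.1 (pow_mem h3 m) g, mul_assoc _ g,
        h5, pow_succ]
      simp only [mul_assoc]
  have h5 : c ^ orderOf w = 1 := by
    have h6 := rp_pow hg (orderOf w)
    rw [pow_orderOf_eq_one] at h6
    have h7 := h4 (orderOf w)
    rwa [hc _ h6.mem_of_one t ht, mul_left_inj, eq_comm, mul_eq_right] at h7
  have h6 : c ^ 2 ^ k = 1 := by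
    have h7 : Commute (g * t * g⁻¹) t⁻¹ :=
      hc _ ((Subgroup.mem_normalizer_iff.1 hg.mem_normalizer t).1 ht) _ (inv_mem ht)
    rw [hc', h7.mul_pow, conj_pow, inv_pow, hk]
    simp
  have h7 : c = 1 := by
    rw [← orderOf_eq_one_iff]
    exact Nat.eq_one_of_dvd_coprimes ((Nat.coprime_two_right.2 ho).pow_right k) (orderOf_dvd_of_pow_eq_one h5)
      (orderOf_dvd_of_pow_eq_one h6)
  rw [hc', mul_inv_eq_one, mul_inv_eq_iff_eq_mul] at h7
  exact h7

theorem top_map (hs : Function.Surjective f) (hG : GG cs h T X = ⊤) :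
    GG cs h (T.map f) (fun x => (X x).map f) = ⊤ := by
  have h1 := congrArg (Subgroup.map f) hG
  rw [Subgroup.map_top_of_surjective _ hs] at h1
  rw [← h1]
  unfold GG RGD.Sup
  rw [Subgroup.map_sup, Subgroup.map_iSup]

variable {β : ι → I → ℤ}

theorem orth_map (hf : f.ker ≤ Subgroup.center Y) (hnf : NoFix cs h T X) (hr : ∀ a, IsRoot cs h (β a))
    (ho : ∀ a b, a ≠ b → ∀ u ∈ LZ X (β a), ∀ v ∈ LZ X (β b), Commute u v) :
    ∀ a b, a ≠ b → ∀ u ∈ LZ (fun x => (X x).map f) (β a), ∀ v ∈ LZ (fun x => (X x).map f) (β b), Commute u v := by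
  intro a b hab
  rw [LZ_map hf hnf (hr a), LZ_map hf hnf (hr b)]
  rintro _ ⟨u, hu, rfl⟩ _ ⟨v, hv, rfl⟩
  exact (ho a b hab u hu v hv).map f

theorem odd_map (hs : Function.Surjective f) (hf : f.ker ≤ Subgroup.center Y) (hnf : NoFix cs h T X)
    (hr : ∀ a, IsRoot cs h (β a)) (ho : Odd (MM R β).index) : Odd (MM R' β).index := by
  refine (ho.of_dvd_nat (Subgroup.index_map_dvd _ hs)).of_dvd_nat (Subgroup.index_dvd_of_le ?_)
  rw [MM, MM, Subgroup.map_sup, Subgroup.map_iSup]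
  refine sup_le_sup (iSup_mono fun a => (LZ_map hf hnf (hr a)).ge) ?_
  rintro _ ⟨g, ⟨w, hw, hg⟩, rfl⟩
  exact ⟨w, hw, rp_map _ _ hg⟩

end Cfsg.Agent.MK.GA
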